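import Groth.Agent.L27.EtSite.HofPush
import Groth.Agent.L27.EtSite.PropA
import Groth.Agent.L27.EtSite.PushStalk
import Groth.Agent.S0071

/-!
# Units and cohomology along an isomorphism
-/

universe u

open CategoryTheory CategoryTheory.Limits AlgebraicGeometry Opposite

set_option backward.isDefEq.respectTransparency.types false

namespace Groth.L28.AcyComp

open Groth.L27.EtSite

variable {X Y : Scheme.{u}} (f : X ⟶ Y) [IsIso f]

theorem exists_stalk_factor {Ω : Type u} [Field Ω] (η : Spec (CommRingCat.of Ω) ⟶ Y) :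
    ∃ ξ : Spec (CommRingCat.of Ω) ⟶ X, ξ ≫ f = η :=
  ⟨η ≫ inv f, by simp⟩

/-- inverse image along an isomorphism detects bijections on stalks -/
theorem bijective_stalk_of_isIso_pull {F G : EtCoh.Ab Y} (φ : F ⟶ G) [IsIso ((EtCoh.pull f).map φ)]
    {Ω : Type u} [Field Ω] [IsSepClosed Ω] (η : Spec (CommRingCat.of Ω) ⟶ Y) :
    Function.Bijective ((EtCoh.stalk η).map φ) := by
  obtain ⟨ξ, rfl⟩ := exists_stalk_factor f η
  have h : IsIso ((EtCoh.stalk ξ).map ((EtCoh.pull f).map φ)) := inferInstance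
  haveI : IsIso ((EtCoh.stalk (ξ ≫ f)).map φ) :=
    (NatIso.isIso_map_iff (stalkPullIso f ξ) φ).1 h
  exact ConcreteCategory.bijective_of_isIso _

theorem bijective_stalk_of_isIso_pullSh {F G : EtDesc.Sh Y} (φ : F ⟶ G) [IsIso ((EtDesc.pullSh f).map φ)]
    {Ω : Type u} [Field Ω] [IsSepClosed Ω] (η : Spec (CommRingCat.of Ω) ⟶ Y) :
    Function.Bijective ((Scheme.pointSmallEtale η).sheafFiber.map φ) := by
  obtain ⟨ξ, rfl⟩ := exists_stalk_factor f η
  have h : IsIso ((Scheme.pointSmallEtale ξ).sheafFiber.map ((EtDesc.pullSh f).map φ)) := inferInstance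
  haveI : IsIso ((Scheme.pointSmallEtale (ξ ≫ f)).sheafFiber (A := Type (u + 1)) |>.map φ) :=
    (NatIso.isIso_map_iff (stalkPullShIso f ξ) φ).1 h
  exact ConcreteCategory.bijective_of_isIso _

theorem isIso_unit (G : EtCoh.Ab Y) : IsIso ((EtCoh.pullPushAdj f).unit.app G) := by
  haveI := isIso_counit f (propA_of_isIntegralHom f) ((EtCoh.pull f).obj G)
  haveI : IsIso ((EtCoh.pull f).map ((EtCoh.pullPushAdj f).unit.app G)) :=
    (IsIso.eq_inv_of_inv_hom_id ((EtCoh.pullPushAdj f).left_triangle_components G)) ▸ inferInstance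
  have h1 : Mono ((EtCoh.pullPushAdj f).unit.app G) :=
    (mono_iff_stalks _).2 fun _ _ _ η => (bijective_stalk_of_isIso_pull f _ η).1
  have h2 : Epi ((EtCoh.pullPushAdj f).unit.app G) :=
    (epi_iff_stalks _).2 fun _ _ _ η => (bijective_stalk_of_isIso_pull f _ η).2
  exact isIso_of_mono_of_epi _

theorem isIso_unitSh (G : EtDesc.Sh Y) : IsIso ((EtDesc.adjSh f).unit.app G) := by
  haveI := isIso_counitSh f (propA_of_isIntegralHom f) ((EtDesc.pullSh f).obj G)
  haveI : IsIso ((EtDesc.pullSh f).map ((EtDesc.adjSh f).unit.app G)) :=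
    (IsIso.eq_inv_of_inv_hom_id ((EtDesc.adjSh f).left_triangle_components G)) ▸ inferInstance
  have h1 : Mono ((EtDesc.adjSh f).unit.app G) :=
    (mono_iff_stalks_type _).2 fun _ _ _ η => (bijective_stalk_of_isIso_pullSh f _ η).1
  have h2 : Epi ((EtDesc.adjSh f).unit.app G) :=
    (epi_iff_stalks_type _).2 fun _ _ _ η => (bijective_stalk_of_isIso_pullSh f _ η).2
  exact isIso_of_mono_of_epi _

theorem bijective_Hpull [PreservesFiniteLimits (EtCoh.pull f)] (G : EtCoh.Ab Y) (q : ℕ) :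
    Function.Bijective (EtCore.Hpull f G q) := by
  haveI := isIso_unit f G
  exact Groth.L27.EtSite.bijective_Hpull f G (fun p hp => Groth.Agent.S0071.result f _ p hp) q

end Groth.L28.AcyComp
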