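import Groth.Prelude.Def_EtAcyc
import Groth.Prelude.Def_SGA4b
import Groth.Agent.L27.LimCoh.HComp
import Groth.Agent.L28.EtTor.Basic
import Groth.Agent.L28.AcyComp.Iso

/-!
# The comparison conditions along composites
-/

universe u

open CategoryTheory CategoryTheory.Limits AlgebraicGeometry Opposite

set_option backward.isDefEq.respectTransparency.types false

namespace Groth.L28.AcyComp

open Groth.L27.LimCoh

variable {X Y Z : Scheme.{u}} (f : Z ⟶ Y) (g : Y ⟶ X) {k : Z ⟶ X}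

instance isIso_pushJoin (w : f ≫ g = k) (F : EtCoh.Ab Z) : IsIso (pushJoin f g w F) := by
  refine ⟨pushSplit f g w F, ?_, ?_⟩ <;>
    refine ObjectProperty.hom_ext _ (NatTrans.ext (funext fun V => ?_))
  · show F.obj.map (_ : _ ⟶ _).op ≫ F.obj.map (_ : _ ⟶ _).op = 𝟙 _
    rw [← F.obj.map_comp, ← op_comp]
    exact (congrArg (fun m => F.obj.map (Quiver.Hom.op m)) (split_join f g w V.unop)).trans (F.obj.map_id _)
  · show F.obj.map (_ : _ ⟶ _).op ≫ F.obj.map (_ : _ ⟶ _).op = 𝟙 _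
    rw [← F.obj.map_comp, ← op_comp]
    exact (congrArg (fun m => F.obj.map (Quiver.Hom.op m)) (join_split f g w V.unop)).trans (F.obj.map_id _)

/-- the direct images compose -/
noncomputable def pushJoinIso (w : f ≫ g = k) : EtCoh.push f ⋙ EtCoh.push g ≅ EtCoh.push k :=
  NatIso.ofComponents (fun F => asIso (pushJoin f g w F)) fun φ => pushJoin_naturality f g w φ

theorem gamma_eq (w : f ≫ g = k) (F : EtCoh.Ab X) :
    gamma f g w F = (Adjunction.leftAdjointUniq (EtCoh.pullPushAdj k)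
      (((EtCoh.pullPushAdj g).comp (EtCoh.pullPushAdj f)).ofNatIsoRight (pushJoinIso f g w))).hom.app F := by
  refine (Equiv.symm_apply_eq _).2 (Eq.trans ?_ (Eq.trans
    (Adjunction.unit_leftAdjointUniq_hom_app (EtCoh.pullPushAdj k)
      (((EtCoh.pullPushAdj g).comp (EtCoh.pullPushAdj f)).ofNatIsoRight (pushJoinIso f g w)) F).symm
    ((EtCoh.pullPushAdj k).homEquiv_unit _ _ _).symm))
  simp [Adjunction.ofNatIsoRight, Adjunction.comp_unit_app, pushJoinIso, Adjunction.homEquiv_unit]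

theorem isIso_gamma (w : f ≫ g = k) (F : EtCoh.Ab X) : IsIso (gamma f g w F) := by
  rw [gamma_eq]; infer_instance

variable [PreservesFiniteLimits (EtCoh.pull f)] [PreservesFiniteLimits (EtCoh.pull g)]
  [PreservesFiniteLimits (EtCoh.pull k)]

theorem hpull_comp_iff (w : f ≫ g = k) (F : EtCoh.Ab X) (n : ℕ) :
    (Function.Bijective (EtCore.Hpull f _ n ∘ EtCore.Hpull g F n) ↔ Function.Bijective (EtCore.Hpull k F n)) ∧
    (Function.Injective (EtCore.Hpull f _ n ∘ EtCore.Hpull g F n) ↔ Function.Injective (EtCore.Hpull k F n)) := by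
  haveI := isIso_gamma f g w F
  have hb : Function.Bijective ((EtCoh.HF Z n).map (gamma f g w F)) :=
    ConcreteCategory.bijective_of_isIso _
  have he : (EtCore.Hpull f _ n ∘ EtCore.Hpull g F n) =
      (EtCoh.HF Z n).map (gamma f g w F) ∘ EtCore.Hpull k F n := funext fun e => Hpull_comp f g w n F e
  rw [he]
  exact ⟨hb.of_comp_iff' _, hb.1.of_comp_iff _⟩

omit [PreservesFiniteLimits (EtCoh.pull f)] [PreservesFiniteLimits (EtCoh.pull g)]
  [PreservesFiniteLimits (EtCoh.pull k)] in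
theorem isLTorsion_pull {L : Set ℕ} {F : EtCoh.Ab X} (hF : EtAcyc.IsLTorsion L F) :
    EtAcyc.IsLTorsion L ((EtCoh.pull g).obj F) := by
  refine Groth.L28.EtTor.isLTorsion_iff_stalks.2 fun Ω _ _ ξ t => ?_
  let e := ((Groth.L27.EtSite.stalkPullIso g ξ).app F)
  obtain ⟨m, hm, ht⟩ := Groth.L28.EtTor.isLTorsion_iff_stalks.1 hF Ω (ξ ≫ g) (e.hom t)
  refine ⟨m, hm, (ConcreteCategory.bijective_of_isIso e.hom).1 ?_⟩
  exact (map_nsmul e.hom.hom m t).trans (ht.trans (map_zero e.hom.hom).symm)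

omit [PreservesFiniteLimits (EtCoh.pull f)] [PreservesFiniteLimits (EtCoh.pull g)]
  [PreservesFiniteLimits (EtCoh.pull k)] in
/-- if `f` satisfies the comparison condition, so does `g` exactly when `f ≫ g` does -/
theorem compN_comp_iff (w : f ≫ g = k) {L : Set ℕ} {n : ℕ} (hf : EtAcyc.CompN f L n) :
    EtAcyc.CompN g L n ↔ EtAcyc.CompN k L n := by
  haveI := Groth.L27.EtSite.preservesFiniteLimits_pull f
  haveI := Groth.L27.EtSite.preservesFiniteLimits_pull g
  haveI := Groth.L27.EtSite.preservesFiniteLimits_pull k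
  refine forall_congr' fun F => forall_congr' fun hF => ?_
  obtain ⟨hb, hi⟩ := hf _ (isLTorsion_pull g hF)
  constructor
  · intro h _
    obtain ⟨gb, gi⟩ := @h inferInstance
    exact ⟨fun q hq => (hpull_comp_iff f g w F q).1.1 ((hb q hq).comp (gb q hq)),
      (hpull_comp_iff f g w F (n + 1)).2.1 (hi.comp gi)⟩
  · intro h _
    obtain ⟨kb, ki⟩ := @h inferInstance
    exact ⟨fun q hq => ((hb q hq).of_comp_iff' _).1 ((hpull_comp_iff f g w F q).1.2 (kb q hq)),
      (hi.of_comp_iff _).1 ((hpull_comp_iff f g w F (n + 1)).2.2 ki)⟩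

omit [PreservesFiniteLimits (EtCoh.pull f)] [PreservesFiniteLimits (EtCoh.pull g)]
  [PreservesFiniteLimits (EtCoh.pull k)] in
theorem compN_of_isIso [IsIso f] (L : Set ℕ) (n : ℕ) : EtAcyc.CompN f L n := fun F _ _ =>
  ⟨fun q _ => bijective_Hpull f F q, (bijective_Hpull f F (n + 1)).1⟩

omit [PreservesFiniteLimits (EtCoh.pull f)] [PreservesFiniteLimits (EtCoh.pull g)]
  [PreservesFiniteLimits (EtCoh.pull k)] in
theorem isIso_unitSh_comp_iff (w : f ≫ g = k)
    (hf : ∀ H : EtDesc.Sh Y, IsIso ((EtDesc.adjSh f).unit.app H)) (F : EtDesc.Sh X) :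
    IsIso ((EtDesc.adjSh g).unit.app F) ↔ IsIso ((EtDesc.adjSh k).unit.app F) := by
  subst w
  have h := Adjunction.unit_leftAdjointUniq_hom_app (EtDesc.adjSh (f ≫ g))
    (((EtDesc.adjSh g).comp (EtDesc.adjSh f)).ofNatIsoRight (EtDesc.pushCompSh g f)) F
  have hr : IsIso ((((EtDesc.adjSh g).comp (EtDesc.adjSh f)).ofNatIsoRight
      (EtDesc.pushCompSh g f)).unit.app F) ↔ IsIso ((EtDesc.adjSh g).unit.app F) := by
    haveI := hf ((EtDesc.pullSh g).obj F)
    simp [Adjunction.ofNatIsoRight, Adjunction.comp_unit_app, Adjunction.homEquiv_unit]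
  refine hr.symm.trans ?_
  rw [← h]
  exact isIso_comp_right_iff _ _

end Groth.L28.AcyComp
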