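import Groth.Prelude.Def_Hensel
import Mathlib.FieldTheory.IsSepClosed
import Mathlib.Algebra.Polynomial.Splits

/-!
# Maps between strict henselizations over a tower of local rings
-/

universe u

open IsLocalRing

namespace Groth.L28.AcyComp

variable {A B : Type u} [CommRing A] [CommRing B] [IsLocalRing A] [IsLocalRing B]
  {A' B' : Type u} [CommRing A'] [CommRing B'] [IsLocalRing A'] [IsLocalRing B']
  [Algebra A A'] [IsLocalHom (algebraMap A A')] [Hensel.IsStrictHenselization A A']
  [Algebra B B'] [IsLocalHom (algebraMap B B')] [Hensel.IsStrictHenselization B B']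

omit [Hensel.IsStrictHenselization A A'] [Hensel.IsStrictHenselization B B']
  [IsLocalHom (algebraMap B B')] [IsLocalHom (algebraMap A A')] [Algebra A A'] [Algebra B B']
  [IsLocalRing A] [IsLocalRing B] [CommRing A] [CommRing B] in
theorem isLocalHom_of_residue {g : A' →+* B'} (τ : ResidueField A' →+* ResidueField B')
    (h : ∀ x, residue B' (g x) = τ (residue A' x)) : IsLocalHom g := by
  refine ⟨fun x hx => ?_⟩
  by_contra hnx
  exact ((residue_ne_zero_iff_isUnit _).2 hx) (by rw [h, (residue_eq_zero_iff x).2 hnx, map_zero])

/-- strict henselizations are functorial -/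
theorem exists_strict_lift (f : A →+* B) [IsLocalHom f] :
    ∃ ψ : A' →+* B', IsLocalHom ψ ∧ ψ.comp (algebraMap A A') = (algebraMap B B').comp f := by
  haveI := (Hensel.IsStrictHenselization.isSepClosure (R := A) (S := A'))
  haveI := (Hensel.IsStrictHenselization.isSepClosure (R := B) (S := B'))
  haveI : HenselianLocalRing B' := Hensel.IsStrictHenselization.henselian (R := B)
  haveI : IsSepClosed (ResidueField B') := IsSepClosure.sep_closed (ResidueField B)
  haveI : IsLocalHom ((algebraMap B B').comp f) := RingHom.isLocalHom_comp _ _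
  letI := (ResidueField.map ((algebraMap B B').comp f)).toAlgebra
  let τ : ResidueField A' →ₐ[ResidueField A] ResidueField B' := IsSepClosed.lift
  obtain ⟨ψ, ⟨hψ, hres⟩, -⟩ := Hensel.IsStrictHenselization.universal (R := A) (S := A') B'
    ((algebraMap B B').comp f) τ.toRingHom (RingHom.ext fun x => τ.commutes x)
  exact ⟨ψ, isLocalHom_of_residue τ.toRingHom hres, hψ⟩

/-- a map from the first strict henselization to a third ring factors through the second -/
theorem exists_strict_factor {C C' : Type u} [CommRing C] [CommRing C'] [IsLocalRing C] [IsLocalRing C']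
    [Algebra C C'] [IsLocalHom (algebraMap C C')] [HenselianLocalRing C']
    (f : A →+* B) [IsLocalHom f] (g : B →+* C) [IsLocalHom g]
    (ψ : B' →+* C') [IsLocalHom ψ] (hψ : ψ.comp (algebraMap B B') = (algebraMap C C').comp g)
    (φ : A' →+* C') [IsLocalHom φ]
    (hφ : φ.comp (algebraMap A A') = (algebraMap C C').comp (g.comp f)) :
    ∃ χ : A' →+* B', IsLocalHom χ ∧ χ.comp (algebraMap A A') = (algebraMap B B').comp f ∧
      ψ.comp χ = φ := by
  haveI := (Hensel.IsStrictHenselization.isSepClosure (R := A) (S := A'))
  haveI := (Hensel.IsStrictHenselization.isSepClosure (R := B) (S := B'))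
  haveI : HenselianLocalRing B' := Hensel.IsStrictHenselization.henselian (R := B)
  haveI : IsSepClosed (ResidueField B') := IsSepClosure.sep_closed (ResidueField B)
  haveI : Algebra.IsSeparable (ResidueField A) (ResidueField A') := IsSepClosure.separable
  haveI : IsLocalHom ((algebraMap B B').comp f) := RingHom.isLocalHom_comp _ _
  haveI : IsLocalHom (φ.comp (algebraMap A A')) := RingHom.isLocalHom_comp _ _
  let τ := ResidueField.map ψ
  let ν := ResidueField.map φ
  let e := ResidueField.map ((algebraMap B B').comp f)
  have hcompat : τ.comp e = ν.comp (algebraMap (ResidueField A) (ResidueField A')) := by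
    refine RingHom.ext fun x => ?_
    obtain ⟨a, rfl⟩ := residue_surjective x
    show residue C' (ψ (algebraMap B B' (f a))) = residue C' (φ (algebraMap A A' a))
    exact congrArg _ ((RingHom.congr_fun hψ (f a)).trans (RingHom.congr_fun hφ a).symm)
  have hrange : ∀ a, ν a ∈ τ.range := fun a => by
    let P := minpoly (ResidueField A) a
    have hs : P.Separable := Algebra.IsSeparable.isSeparable (ResidueField A) a
    have hne : P.map e ≠ 0 := Polynomial.map_ne_zero hs.ne_zero
    refine (IsSepClosed.splits_of_separable _ hs.map).mem_range_of_isRoot hne ?_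
    rw [Polynomial.IsRoot.def, Polynomial.map_map, hcompat, Polynomial.eval_map,
      ← Polynomial.hom_eval₂]
    exact (congrArg ν (minpoly.aeval (ResidueField A) a)).trans (map_zero ν)
  let E : ResidueField B' ≃+* τ.range := RingEquiv.ofBijective τ.rangeRestrict
    ⟨fun x y h => τ.injective (congrArg Subtype.val h), τ.rangeRestrict_surjective⟩
  let τ' : ResidueField A' →+* ResidueField B' := E.symm.toRingHom.comp (ν.codRestrict τ.range hrange)
  have hτ' : ∀ a, τ (τ' a) = ν a := fun a => congrArg Subtype.val (E.apply_symm_apply ⟨ν a, hrange a⟩)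
  obtain ⟨χ, ⟨hχ, hres⟩, -⟩ := Hensel.IsStrictHenselization.universal (R := A) (S := A') B'
    ((algebraMap B B').comp f) τ' (RingHom.ext fun x => τ.injective ((hτ' _).trans
      (RingHom.congr_fun hcompat x).symm))
  refine ⟨χ, isLocalHom_of_residue τ' hres, hχ, ?_⟩
  refine (Hensel.IsStrictHenselization.universal (R := A) (S := A') C'
    (φ.comp (algebraMap A A')) ν (ResidueField.map_comp _ _).symm).unique ⟨?_, fun x => ?_⟩ ⟨rfl, fun x => rfl⟩
  · rw [RingHom.comp_assoc, hχ, ← RingHom.comp_assoc, hψ, RingHom.comp_assoc, hφ]
  · show τ (residue B' (χ x)) = ν (residue A' x)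
    rw [hres, hτ']

end Groth.L28.AcyComp
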