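import Groth.Agent.S3513
import Groth.Agent.S0537
import Groth.Agent.L28.AcyComp.StrictTower

/-!
# Local acyclicity along composites
-/

universe u

open CategoryTheory CategoryTheory.Limits AlgebraicGeometry

namespace Groth.L28.AcyComp

theorem onStrictLocalizations_comp_iff {X Y Z : Scheme.{u}} (g : X ⟶ Y) (h : Y ⟶ Z)
    (hs : Function.Surjective g.base) (P : ∀ ⦃X' Y' : Scheme.{u}⦄, (X' ⟶ Y') → Prop)
    (hP : ∀ ⦃A B C : Scheme.{u}⦄ (a : A ⟶ B) (b : B ⟶ C), P a → (P b ↔ P (a ≫ b)))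
    (hg : EtAcyc.OnStrictLocalizations g P) :
    EtAcyc.OnStrictLocalizations h P ↔ EtAcyc.OnStrictLocalizations (g ≫ h) P := by
  constructor
  · intro hh x RZ RX _ _ _ _ aZ lZ sZ _ _ _ _ _ w
    letI : Algebra (Z.presheaf.stalk (h.base (g.base x))) RZ := aZ
    haveI : IsLocalHom (algebraMap (Z.presheaf.stalk (h.base (g.base x))) RZ) := lZ
    haveI : Hensel.IsStrictHenselization (Z.presheaf.stalk (h.base (g.base x))) RZ := sZ
    obtain ⟨RY, _, _, _, _, _⟩ := Groth.Agent.S0537.result (Y.presheaf.stalk (g.base x))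
    obtain ⟨ψ, hψl, hψ⟩ := exists_strict_lift (A' := RY) (B' := RX) (g.stalkMap x).hom
    haveI : HenselianLocalRing RX := Hensel.IsStrictHenselization.henselian (R := X.presheaf.stalk x)
    have hsc : ((g ≫ h).stalkMap x).hom = (g.stalkMap x).hom.comp (h.stalkMap (g.base x)).hom := by
      rw [Scheme.Hom.stalkMap_comp]; rfl
    obtain ⟨χ, hχl, hχ, hfac⟩ := exists_strict_factor (A' := RZ) (B' := RY) (C' := RX)
      (h.stalkMap (g.base x)).hom (g.stalkMap x).hom ψ hψ (algebraMap RZ RX) (by rw [← hsc]; exact w)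
    letI := χ.toAlgebra
    letI := ψ.toAlgebra
    haveI : IsLocalHom (algebraMap RZ RY) := hχl
    haveI : IsLocalHom (algebraMap RY RX) := hψl
    have h1 := hh (g.base x) RZ RY hχ
    have h2 := hg x RY RX hψ
    have := (hP _ _ h2).1 h1
    rw [← Spec.map_comp, ← CommRingCat.ofHom_comp] at this
    exact hfac ▸ this
  · intro hgh y RZ RY _ _ _ _ aZ lZ sZ _ _ _ _ _ w
    obtain ⟨x, rfl⟩ := hs y
    letI : Algebra (Z.presheaf.stalk ((g ≫ h).base x)) RZ := aZ
    haveI : IsLocalHom (algebraMap (Z.presheaf.stalk ((g ≫ h).base x)) RZ) := lZ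
    haveI : Hensel.IsStrictHenselization (Z.presheaf.stalk ((g ≫ h).base x)) RZ := sZ
    obtain ⟨RX, _, _, _, _, _⟩ := Groth.Agent.S0537.result (X.presheaf.stalk x)
    obtain ⟨ψ, hψl, hψ⟩ := exists_strict_lift (A' := RY) (B' := RX) (g.stalkMap x).hom
    letI := ψ.toAlgebra
    haveI : IsLocalHom (algebraMap RY RX) := hψl
    letI := ((algebraMap RY RX).comp (algebraMap RZ RY)).toAlgebra
    haveI : IsLocalHom (algebraMap RZ RX) := RingHom.isLocalHom_comp _ _
    have hsc : ((g ≫ h).stalkMap x).hom = (g.stalkMap x).hom.comp (h.stalkMap (g.base x)).hom := by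
      rw [Scheme.Hom.stalkMap_comp]; rfl
    have h1 := hgh x RZ RX (by
      refine RingHom.ext fun a => ?_
      refine Eq.trans (congrArg ψ (RingHom.congr_fun w a)) ?_
      refine (RingHom.congr_fun hψ _).trans ?_
      rw [hsc]; rfl)
    have h2 := hg x RY RX hψ
    refine (hP _ _ h2).2 ?_
    rw [← Spec.map_comp, ← CommRingCat.ofHom_comp]
    exact h1

end Groth.L28.AcyComp
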